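import Groth.Agent.DerLib.KInjUse
import Groth.Prelude.Def_SpSeq
import Mathlib.Algebra.Homology.HomologicalComplexBiprod
import Mathlib.Algebra.Homology.HomologicalComplexLimits
import Mathlib.Data.Int.Interval

/-!
# Filtered complexes representing systems in the derived category
-/

set_option autoImplicit false
set_option linter.unusedSectionVars false
set_option linter.style.haveILetI false

universe w v u

open CategoryTheory CategoryTheory.Limits HomologicalComplex Pretriangulated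
open Groth.Agent.DerLib

namespace FilSysLib

variable {A : Type u} [Category.{v} A] [Abelian A]

theorem isZero_quotient_cone (K : CochainComplex A ℤ) :
    IsZero ((HomotopyCategory.quotient A (ComplexShape.up ℤ)).obj (CochainComplex.mappingCone (𝟙 K))) := by
  refine Triangle.isZero₃_of_isIso₁ _
    (HomotopyCategory.mappingCone_triangleh_distinguished (𝟙 K)) ?_
  show IsIso ((HomotopyCategory.quotient A (ComplexShape.up ℤ)).map (𝟙 K))
  rw [CategoryTheory.Functor.map_id]
  infer_instance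

theorem quotient_id_cone_pi {S : Type} (I : S → CochainComplex A ℤ)
    [HasProduct fun s => CochainComplex.mappingCone (𝟙 (I s))] :
    (HomotopyCategory.quotient A (ComplexShape.up ℤ)).map
      (𝟙 (∏ᶜ fun s => CochainComplex.mappingCone (𝟙 (I s)))) = 0 :=
  KInjUse.quotient_eq_zero_of_pi _ fun _ => (isZero_quotient_cone _).eq_of_tgt _ _

theorem mono_inr (K : CochainComplex A ℤ) : Mono (CochainComplex.mappingCone.inr (𝟙 K)) :=
  HomologicalComplex.mono_of_mono_f _ fun n => by
    haveI : IsSplitMono ((CochainComplex.mappingCone.inr (𝟙 K)).f n) :=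
      ⟨⟨⟨(CochainComplex.mappingCone.snd (𝟙 K)).v n n (add_zero n), CochainComplex.mappingCone.inr_f_snd_v _ _⟩⟩⟩
    infer_instance

variable [HasProductsOfShape ℤ A] [∀ i : ℤ, HasProductsOfShape {j : ℤ // i < j} A]
  (I : ℤ → CochainComplex A ℤ) (τ : ∀ i, I (i + 1) ⟶ I i)

/-- The cone of the identity. -/
noncomputable abbrev C (j : ℤ) : CochainComplex A ℤ := CochainComplex.mappingCone (𝟙 (I j))

/-- The cone embedding. -/
noncomputable abbrev ι (j : ℤ) : I j ⟶ C I j := CochainComplex.mappingCone.inr _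

/-- The composite transitions into a cone. -/
noncomputable def G (j : ℤ) : ∀ (k : ℕ) (i : ℤ), i = j + k → (I i ⟶ C I j)
  | 0, i, h => eqToHom (congrArg I (by omega)) ≫ ι I j
  | k + 1, i, h => eqToHom (congrArg I (by omega : i = (i - 1) + 1)) ≫ τ (i - 1) ≫ G j k (i - 1) (by omega)

theorem G_succ (j : ℤ) (k : ℕ) (i : ℤ) (h : i = j + k) :
    G I τ j (k + 1) (i + 1) (by omega) = τ i ≫ G I τ j k i h := by
  rw [G]
  have aux : ∀ (i' : ℤ) (e : i' = i),
      eqToHom (congrArg I (show i + 1 = i' + 1 by omega)) ≫ τ i' ≫ G I τ j k i' (by omega) =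
        τ i ≫ G I τ j k i h := by
    rintro i' rfl
    simp
  exact aux (i + 1 - 1) (by omega)

/-- The composite transition into a cone. -/
noncomputable def γ (j i : ℤ) (h : j ≤ i) : I i ⟶ C I j := G I τ j (i - j).toNat i (by omega)

theorem γ_eq (j i : ℤ) (h : j ≤ i) (k : ℕ) (hk : i = j + k) : γ I τ j i h = G I τ j k i hk := by
  obtain rfl : k = (i - j).toNat := by omega
  rfl

theorem γ_self (j : ℤ) : γ I τ j j le_rfl = ι I j := by
  rw [γ_eq I τ j j le_rfl 0 (by simp), G]
  simp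

theorem γ_succ (j i : ℤ) (h : j ≤ i) : γ I τ j (i + 1) (by omega) = τ i ≫ γ I τ j i h := by
  rw [γ_eq I τ j i h (i - j).toNat (by omega), γ_eq I τ j (i + 1) _ ((i - j).toNat + 1) (by omega)]
  exact G_succ I τ j _ i _

/-- The padding. -/
noncomputable abbrev P (i : ℤ) : CochainComplex A ℤ := ∏ᶜ fun j : {j : ℤ // i < j} => C I j.1

/-- The padded terms. -/
noncomputable abbrev X (i : ℤ) : CochainComplex A ℤ := I i ⊞ P I i

/-- The padded transitions. -/
noncomputable def s (i : ℤ) : X I (i + 1) ⟶ X I i :=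
  biprod.lift (biprod.fst ≫ τ i) (Pi.lift fun j =>
    if h : j.1 = i + 1 then biprod.fst ≫ ι I (i + 1) ≫ eqToHom (congrArg (C I) h.symm)
    else biprod.snd ≫ Pi.π (fun j : {j : ℤ // i + 1 < j} => C I j.1) ⟨j.1, by have := j.2; omega⟩)

/-- The cone components. -/
noncomputable def κ (i j : ℤ) : X I i ⟶ C I j :=
  if h : i < j then biprod.snd ≫ Pi.π (fun j : {j : ℤ // i < j} => C I j.1) ⟨j, h⟩
  else biprod.fst ≫ γ I τ j i (not_lt.1 h)

theorem s_κ (i j : ℤ) : s I τ i ≫ κ I τ i j = κ I τ (i + 1) j := by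
  by_cases h : i < j
  · rw [κ, dif_pos h, s, biprod.lift_snd_assoc, Pi.lift_π]
    by_cases h' : j = i + 1
    · subst h'
      rw [dif_pos rfl, κ, dif_neg (lt_irrefl _), γ_self]
      simp
    · rw [dif_neg h', κ, dif_pos (by omega)]
  · rw [κ, dif_neg h, κ, dif_neg (by omega), s, biprod.lift_fst_assoc, Category.assoc, γ_succ I τ j i (not_lt.1 h)]

variable {J : CochainComplex A ℤ} (α : ∀ i, I i ⟶ J) (φ : ∀ j, C I j ⟶ J)

/-- The correction component. -/
noncomputable def ψ (i j : ℤ) : X I i ⟶ J :=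
  if h : i < j then biprod.snd ≫ Pi.π (fun j : {j : ℤ // i < j} => C I j.1) ⟨j, h⟩ ≫ φ j else 0

/-- The component into `J`. -/
noncomputable def β (i : ℤ) : X I i ⟶ J := biprod.fst ≫ α i + ∑ j ∈ Finset.Ioc i 0, ψ I φ i j

theorem s_β (hφ : ∀ i, i + 1 ≤ 0 → τ i ≫ α i + ι I (i + 1) ≫ φ (i + 1) = α (i + 1))
    (hα : ∀ i, 0 < i + 1 → τ i ≫ α i = α (i + 1)) (i : ℤ) :
    s I τ i ≫ β I α φ i = β I α φ (i + 1) := by
  have hs : ∀ j, i + 1 < j → s I τ i ≫ ψ I φ i j = ψ I φ (i + 1) j := fun j hj => by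
    rw [ψ, dif_pos (by omega), ψ, dif_pos hj, s, biprod.lift_snd_assoc, Pi.lift_π_assoc, dif_neg (by simp; omega)]
    simp
  rw [β, β, Preadditive.comp_add, Preadditive.comp_sum]
  have h0 : s I τ i ≫ biprod.fst ≫ α i = biprod.fst ≫ τ i ≫ α i := by rw [s, biprod.lift_fst_assoc, Category.assoc]
  rw [h0]
  by_cases hi : i + 1 ≤ 0
  · rw [show Finset.Ioc i 0 = insert (i + 1) (Finset.Ioc (i + 1) 0) by ext x; simp; omega,
      Finset.sum_insert (by simp), ← add_assoc]
    congr 1
    · rw [ψ, dif_pos (by omega), s, biprod.lift_snd_assoc, Pi.lift_π_assoc, dif_pos rfl, ← hφ i hi]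
      simp
    · exact Finset.sum_congr rfl fun j hj => hs j (Finset.mem_Ioc.1 hj).1
  · rw [show Finset.Ioc i 0 = ∅ by ext x; simp; omega, show Finset.Ioc (i + 1) 0 = ∅ by ext x; simp; omega,
      Finset.sum_empty, Finset.sum_empty, hα i (by omega)]

/-- The ambient complex. -/
noncomputable abbrev amb (J : CochainComplex A ℤ) : CochainComplex A ℤ := J ⊞ ∏ᶜ fun j : ℤ => C I j

/-- The embeddings. -/
noncomputable def m (i : ℤ) : X I i ⟶ amb I J := biprod.lift (β I α φ i) (Pi.lift (κ I τ i))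

theorem mono_m (i : ℤ) : Mono (m I τ α φ i) := by
  refine Preadditive.mono_of_cancel_zero _ fun f hf => ?_
  have hj : ∀ j, f ≫ κ I τ i j = 0 := fun j => by
    have := congrArg (fun g => g ≫ biprod.snd ≫ Pi.π (fun j : ℤ => C I j) j) hf
    simpa [m] using this
  have h1 : f ≫ biprod.fst = 0 := by
    have h' := hj i
    rw [κ, dif_neg (lt_irrefl _), γ_self, ← Category.assoc] at h'
    haveI := mono_inr (I i)
    exact (cancel_mono (ι I i)).1 (h'.trans zero_comp.symm)
  refine biprod.hom_ext _ _ (h1.trans zero_comp.symm) ((?_ : f ≫ biprod.snd = 0).trans zero_comp.symm)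
  refine Limits.Pi.hom_ext _ _ fun j => ?_
  have := hj j.1
  rw [κ, dif_pos j.2] at this
  rw [Category.assoc, zero_comp]
  exact this

variable [HasDerivedCategory.{w} A]

theorem Q_map_biprod_fst {K : CochainComplex A ℤ} {S : Type} (L : S → CochainComplex A ℤ)
    [HasProduct fun s => CochainComplex.mappingCone (𝟙 (L s))] :
    IsIso (DerivedCategory.Q.map (biprod.fst : K ⊞ (∏ᶜ fun s => CochainComplex.mappingCone (𝟙 (L s))) ⟶ K)) := by
  refine ⟨DerivedCategory.Q.map biprod.inl, ?_, ?_⟩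
  · let T : CochainComplex A ℤ := ∏ᶜ fun s => CochainComplex.mappingCone (𝟙 (L s))
    have h : (biprod.snd : K ⊞ T ⟶ T) ≫ (biprod.inr : T ⟶ K ⊞ T) =
        biprod.snd ≫ 𝟙 T ≫ biprod.inr := by simp
    have h0 : DerivedCategory.Q.map ((biprod.snd : K ⊞ T ⟶ T) ≫ (biprod.inr : T ⟶ K ⊞ T)) = 0 := by
      rw [h, Functor.map_comp, Functor.map_comp,
        show DerivedCategory.Q.map (𝟙 T) = 0 from KInjUse.Q_map_zero_of_quotient (quotient_id_cone_pi L),
        zero_comp, comp_zero]
    have h1 := congrArg DerivedCategory.Q.map (biprod.total (X := K) (Y := T))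
    rw [Functor.map_add, h0, add_zero, Functor.map_comp, CategoryTheory.Functor.map_id] at h1
    exact h1
  · rw [← Functor.map_comp, biprod.inl_fst, CategoryTheory.Functor.map_id]

theorem Q_map_ψ (i j : ℤ) : DerivedCategory.Q.map (ψ I φ i j) = 0 := by
  rw [ψ]
  split_ifs with h
  · have : DerivedCategory.Q.map (φ j) = 0 := by
      rw [← Category.id_comp (φ j), Functor.map_comp, KInjUse.Q_map_zero_of_quotient
        ((isZero_quotient_cone (I j)).eq_of_src _ _ : (HomotopyCategory.quotient A (ComplexShape.up ℤ)).map (𝟙 (C I j)) = 0), zero_comp]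
    simp [this]
  · simp

theorem Q_map_β (i : ℤ) : DerivedCategory.Q.map (β I α φ i) = DerivedCategory.Q.map (biprod.fst ≫ α i) := by
  rw [β, Functor.map_add, Functor.map_sum, Finset.sum_eq_zero fun j _ => Q_map_ψ I φ i j, add_zero]

end FilSysLib

namespace FilSysLib

variable {A : Type u} [Category.{v} A] [Abelian A] [IsGrothendieckAbelian.{v} A] [HasDerivedCategory.{w} A]

theorem exists_fil (E : DerivedCategory A) (Es : ℤ → DerivedCategory A) (t : ∀ i : ℤ, Es (i + 1) ⟶ Es i)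
    (a : ∀ i : ℤ, Es i ⟶ E) (hat : ∀ i : ℤ, t i ≫ a i = a (i + 1)) :
    ∃ (K : SpSeq.FilCx A) (e : DerivedCategory.Q.obj K.obj ≅ E)
      (ei : ∀ i : ℤ, DerivedCategory.Q.obj (K.step i) ≅ Es i),
      (∀ i : ℤ, DerivedCategory.Q.map (K.fil i).arrow ≫ e.hom = (ei i).hom ≫ a i) ∧
      (∀ i : ℤ, DerivedCategory.Q.map (K.stepLE (le_of_lt (Int.lt_succ_self i))) ≫ (ei i).hom =
        (ei (i + 1)).hom ≫ t i) := by
  classical
  haveI := hasLimitsOfSizeShrink.{0, 0, v, v} A
  obtain ⟨J, hJ, ⟨eJ⟩⟩ := KInjUse.exists_iso_Q_kInjective E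
  choose I hI eI using fun i => KInjUse.exists_iso_Q_kInjective (Es i)
  haveI : ∀ i, (I i).IsKInjective := hI
  let e' := fun i => (eI i).some
  choose τ hτ using fun i => KInjUse.Q_map_surjective (I (i + 1)) (I i) ((e' (i + 1)).inv ≫ t i ≫ (e' i).hom)
  choose α₀ hα₀ using fun i => KInjUse.Q_map_surjective (I i) J ((e' i).inv ≫ a i ≫ eJ.hom)
  let αn : ∀ n : ℕ, I (n : ℤ) ⟶ J := fun n => Nat.rec (motive := fun n : ℕ => I (n : ℤ) ⟶ J) (α₀ 0) (fun n f => τ (n : ℤ) ≫ f) n
  let α : ∀ i, I i ⟶ J := fun i => match i with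
    | Int.ofNat n => αn n
    | Int.negSucc n => α₀ (Int.negSucc n)
  have hαQ : ∀ i, DerivedCategory.Q.map (α i) = (e' i).inv ≫ a i ≫ eJ.hom := fun i => match i with
    | Int.ofNat n => by
      show DerivedCategory.Q.map (αn n) = _
      induction n with
      | zero => exact hα₀ 0
      | succ n ih =>
        show DerivedCategory.Q.map (τ (n : ℤ) ≫ αn n) = _
        rw [Functor.map_comp, hτ, ih]
        show _ = (e' ((n : ℤ) + 1)).inv ≫ a ((n : ℤ) + 1) ≫ eJ.hom
        rw [← hat]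
        simp
    | Int.negSucc n => hα₀ _
  have hαs : ∀ i, 0 < i + 1 → τ i ≫ α i = α (i + 1) := fun i hi => match i, hi with
    | Int.ofNat n, _ => rfl
    | Int.negSucc n, h => absurd h (by omega)
  have hφ0 : ∀ j, ∃ φ : C I j ⟶ J, ∀ i, j = i + 1 → ∀ e : I (i + 1) = I j,
      eqToHom e ≫ ι I j ≫ φ = α (i + 1) - τ i ≫ α i := fun j => by
    obtain ⟨i, rfl⟩ : ∃ i, j = i + 1 := ⟨j - 1, by omega⟩
    obtain ⟨φ, hφ⟩ := KInjUse.exists_factor (α (i + 1) - τ i ≫ α i) (KInjUse.quotient_eq_zero_of_Q (by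
      rw [Functor.map_sub, Functor.map_comp, hτ, hαQ, hαQ, ← hat]
      simp))
    refine ⟨φ, fun i' hi' e => ?_⟩
    obtain rfl : i' = i := by omega
    rw [eqToHom_refl, Category.id_comp]
    exact hφ
  choose φ hφ using hφ0
  have hφ' : ∀ i, i + 1 ≤ 0 → τ i ≫ α i + ι I (i + 1) ≫ φ (i + 1) = α (i + 1) := fun i _ => by
    have := hφ (i + 1) i rfl rfl
    rw [eqToHom_refl, Category.id_comp] at this
    rw [this, add_sub_cancel]
  haveI := fun i => mono_m I τ α φ i
  have hm : ∀ i, s I τ i ≫ m I τ α φ i = m I τ α φ (i + 1) := fun i => by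
    refine biprod.hom_ext _ _ ?_ (Limits.Pi.hom_ext _ _ fun j => ?_)
    · simp [m, s_β I τ α φ hφ' hαs i]
    · simp [m, s_κ]
  let K : SpSeq.FilCx A :=
    { obj := amb I J
      fil := fun i => Subobject.mk (m I τ α φ i)
      anti := antitone_int_of_succ_le fun i => Subobject.mk_le_mk_of_comm (s I τ i) (hm i) }
  haveI : IsIso (DerivedCategory.Q.map (biprod.fst : amb I J ⟶ J)) := Q_map_biprod_fst (K := J) I
  haveI : ∀ i, IsIso (DerivedCategory.Q.map (biprod.fst : X I i ⟶ I i)) := fun i =>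
    Q_map_biprod_fst (K := I i) fun j : {j : ℤ // i < j} => I j.1
  let e : DerivedCategory.Q.obj K.obj ≅ E := asIso (DerivedCategory.Q.map (biprod.fst : amb I J ⟶ J)) ≪≫ eJ.symm
  let u : ∀ i, (K.step i) ≅ X I i := fun i => Subobject.underlyingIso (m I τ α φ i)
  have hu : ∀ i, (u i).hom ≫ m I τ α φ i = (K.fil i).arrow := fun i => Subobject.underlyingIso_hom_comp_eq_mk _
  let ei : ∀ i, DerivedCategory.Q.obj (K.step i) ≅ Es i := fun i =>
    DerivedCategory.Q.mapIso (u i) ≪≫ asIso (DerivedCategory.Q.map (biprod.fst : X I i ⟶ I i)) ≪≫ (e' i).symm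
  refine ⟨K, e, ei, fun i => ?_, fun i => ?_⟩
  · rw [← hu]
    simp only [e, ei, Iso.trans_hom, asIso_hom, Iso.symm_hom, Functor.mapIso_hom, Functor.map_comp, Category.assoc]
    congr 1
    rw [← Category.assoc, ← Functor.map_comp, show m I τ α φ i ≫ biprod.fst = β I α φ i from biprod.lift_fst _ _,
      Q_map_β, Functor.map_comp, hαQ]
    simp
  · have h2 : K.stepLE (le_of_lt (Int.lt_succ_self i)) ≫ (u i).hom = (u (i + 1)).hom ≫ s I τ i := by
      exact (cancel_mono (m I τ α φ i)).1 ((Category.assoc _ _ _).trans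
        (((congrArg (_ ≫ ·) (hu i)).trans ((Subobject.ofLE_arrow _).trans (hu (i + 1)).symm)).trans
          ((congrArg (_ ≫ ·) (hm i).symm).trans (Category.assoc _ _ _).symm)))
    simp only [ei, Iso.trans_hom, asIso_hom, Iso.symm_hom, Functor.mapIso_hom, Category.assoc]
    refine ((DerivedCategory.Q.map_comp_assoc _ _ _).symm.trans ((congrArg (fun f => DerivedCategory.Q.map f ≫
      DerivedCategory.Q.map (biprod.fst : X I i ⟶ I i) ≫ (e' i).inv) h2).trans (DerivedCategory.Q.map_comp_assoc _ _ _))).trans ?_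
    congr 1
    rw [← Category.assoc, ← Functor.map_comp, s, biprod.lift_fst, Functor.map_comp, hτ]
    simp

end FilSysLib
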